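import Mathlib.RingTheory.Bialgebra.Convolution
import Mathlib.RingTheory.HopfAlgebra.Convolution
import Mathlib.RingTheory.HopfAlgebra.Quotient
import Mathlib.RingTheory.Filtration
import Mathlib.RingTheory.Jacobson.Artinian
import Mathlib.LinearAlgebra.TensorProduct.RightExactness
import Mathlib.LinearAlgebra.TensorProduct.Basis
import Mathlib.Algebra.CharP.Lemmas
import Mathlib.FieldTheory.IsAlgClosed.Basic
import Groth.Agent.Lib.Hopf.CharZeroReduced

/-!
# Higher Frobenius kernels and detection of quotients of commutative Hopf algebras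
-/

universe u v w

open TensorProduct WithConv

namespace GrothLib.FrobN13

variable {k : Type u} [Field k]

section frobIdeal

variable (p n : ℕ) [Fact p.Prime] [CharP k p] (A : Type v) [CommRing A] [HopfAlgebra k A]

/-- The ideal of the `n`-th Frobenius kernel. -/
def frobIdeal : Ideal A :=
  Ideal.span ((fun a : A => a ^ p ^ n) '' (RingHom.ker (Bialgebra.counitAlgHom k A) : Set A))

theorem frobIdeal_le_ker : frobIdeal (k := k) p n A ≤ RingHom.ker (Bialgebra.counitAlgHom k A) := by
  rw [frobIdeal, Ideal.span_le]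
  rintro _ ⟨a, ha, rfl⟩
  exact Ideal.pow_mem_of_mem _ ha _ (pow_pos (Fact.out : p.Prime).pos n)

theorem frobIdeal_le_pow {m : ℕ} (hm : m ≤ p ^ n) :
    frobIdeal (k := k) p n A ≤ RingHom.ker (Bialgebra.counitAlgHom k A) ^ m := by
  rw [frobIdeal, Ideal.span_le]
  rintro _ ⟨a, ha, rfl⟩
  exact Ideal.pow_le_pow_right hm (Ideal.pow_mem_pow ha _)

theorem isHopfIdeal_frobIdeal : (frobIdeal (k := k) p n A).IsHopfIdeal k := by
  have hp := (Fact.out : p.Prime)
  have hq0 : p ^ n ≠ 0 := (pow_pos hp.pos n).ne'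
  set J := frobIdeal (k := k) p n A with hJdef
  set ε := Bialgebra.counitAlgHom k A
  set Φ : A →ₐ[k] (A ⧸ J) ⊗[k] (A ⧸ J) :=
    (Algebra.TensorProduct.map (Ideal.Quotient.mkₐ k J) (Ideal.Quotient.mkₐ k J)).comp (Bialgebra.comulAlgHom k A)
  haveI : Nontrivial A := ε.toRingHom.domain_nontrivial
  have hcase : ∀ a ∈ RingHom.ker ε, Φ (a ^ p ^ n) = 0 := fun a ha => by
    rw [map_pow]
    change (Algebra.TensorProduct.map (Ideal.Quotient.mkₐ k J) (Ideal.Quotient.mkₐ k J)
      (Coalgebra.comul (R := k) a)) ^ p ^ n = 0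
    by_cases h : Nontrivial ((A ⧸ J) ⊗[k] (A ⧸ J))
    · haveI : CharP ((A ⧸ J) ⊗[k] (A ⧸ J)) p :=
        charP_of_injective_algebraMap (algebraMap k _).injective p
      haveI : ExpChar ((A ⧸ J) ⊗[k] (A ⧸ J)) p := ExpChar.prime hp
      have hq : ∀ b : A, Ideal.Quotient.mkₐ k J b ^ p ^ n = algebraMap k (A ⧸ J) (ε b ^ p ^ n) := fun b => by
        have h1 : Ideal.Quotient.mkₐ k J ((b - algebraMap k A (ε b)) ^ p ^ n) = 0 :=
          Ideal.Quotient.eq_zero_iff_mem.mpr (Ideal.subset_span ⟨_, by simp [ε], rfl⟩)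
        haveI : Nontrivial (A ⧸ J) :=
          Ideal.Quotient.nontrivial_iff.mpr fun hJ => RingHom.ker_ne_top ε.toRingHom
            (top_le_iff.mp (hJ ▸ frobIdeal_le_ker p n A))
        haveI : CharP (A ⧸ J) p := charP_of_injective_algebraMap (algebraMap k _).injective p
        haveI : ExpChar (A ⧸ J) p := ExpChar.prime hp
        rw [map_pow, map_sub, sub_pow_expChar_pow, sub_eq_zero] at h1
        rw [h1, ← map_pow, ← map_pow, AlgHom.commutes]
      have key : ∀ t : A ⊗[k] A, Algebra.TensorProduct.map (Ideal.Quotient.mkₐ k J) (Ideal.Quotient.mkₐ k J) t ^ p ^ n =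
          algebraMap k _ (Algebra.TensorProduct.lift ε ε (fun _ _ => Commute.all _ _) t ^ p ^ n) := fun t => by
        induction t using TensorProduct.induction_on with
        | zero => simp [zero_pow hq0]
        | tmul b c =>
          rw [Algebra.TensorProduct.map_tmul, Algebra.TensorProduct.tmul_pow, hq, hq,
            Algebra.TensorProduct.lift_tmul, mul_pow, Algebra.TensorProduct.algebraMap_apply]
          simp only [Algebra.algebraMap_eq_smul_one, TensorProduct.smul_tmul', TensorProduct.tmul_smul,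
            smul_smul, mul_comm]
        | add x y hx hy => simp only [map_add, add_pow_expChar_pow, hx, hy]
      rw [key]
      have h2 : Algebra.TensorProduct.lift ε ε (fun _ _ => Commute.all _ _) (Coalgebra.comul (R := k) a) = ε a := by
        have h3 : ε (TensorProduct.lid k A (Coalgebra.counit.rTensor A (Coalgebra.comul (R := k) a))) = ε a := by
          rw [Coalgebra.rTensor_counit_comul]; simp
        rw [← h3]
        induction Coalgebra.comul (R := k) a using TensorProduct.induction_on with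
        | zero => simp
        | tmul b c => simp [ε]
        | add x y hx hy => simp only [map_add, hx, hy]
      rw [h2, show ε a = 0 from ha, zero_pow hq0, map_zero]
    · exact (not_nontrivial_iff_subsingleton.mp h).elim _ _
  suffices h : (∀ x ∈ J, Φ x = 0) ∧ ∀ x ∈ J, HopfAlgebraStruct.antipode k x ∈ J from
    { counit_eq_zero := fun x hx => frobIdeal_le_ker p n A hx
      map_mkQ_comul_eq_zero := fun x hx => h.1 x hx
      antipode_mem := fun _ hx => h.2 _ hx }
  refine ⟨fun x hx => ?_, fun x hx => ?_⟩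
  · exact (Ideal.span_le.mpr (fun y => by rintro ⟨a, ha, rfl⟩; exact hcase a ha) : J ≤ RingHom.ker Φ) hx
  · refine (Ideal.span_le.mpr (fun y => ?_) : J ≤ J.comap (HopfAlgebra.antipodeAlgHom k A)) hx
    rintro ⟨a, ha, rfl⟩
    rw [SetLike.mem_coe, Ideal.mem_comap, map_pow]
    exact Ideal.subset_span ⟨_, (HopfAlgebra.counit_antipode a).trans ha, rfl⟩

theorem finite_quotient_frobIdeal [Algebra.FiniteType k A] :
    Module.Finite k (A ⧸ frobIdeal (k := k) p n A) := by
  set J := frobIdeal (k := k) p n A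
  set ε := Bialgebra.counitAlgHom k A
  haveI : Algebra.FiniteType k (A ⧸ J) :=
    Algebra.FiniteType.of_surjective (Ideal.Quotient.mkₐ k J) (Ideal.Quotient.mkₐ_surjective k J)
  haveI : Algebra.IsIntegral k (A ⧸ J) := ⟨fun z => by
    obtain ⟨a, rfl⟩ := Ideal.Quotient.mk_surjective z
    have h0 : (Ideal.Quotient.mk J (a - algebraMap k A (ε a))) ^ p ^ n = 0 := by
      rw [← map_pow]
      exact Ideal.Quotient.eq_zero_iff_mem.mpr (Ideal.subset_span ⟨_, by simp [ε], rfl⟩)
    have hn : IsIntegral k (Ideal.Quotient.mk J (a - algebraMap k A (ε a))) :=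
      IsIntegral.of_pow (pow_pos (Fact.out : p.Prime).pos n) (by rw [h0]; exact isIntegral_zero)
    have : Ideal.Quotient.mk J a = Ideal.Quotient.mk J (a - algebraMap k A (ε a)) + algebraMap k (A ⧸ J) (ε a) := by
      rw [map_sub, Ideal.Quotient.mk_algebraMap]; abel
    rw [this]
    exact hn.add isIntegral_algebraMap⟩
  exact Algebra.IsIntegral.finite

end frobIdeal

theorem exists_point {B : Type u} [CommRing B] [Algebra k B] (K : Type u) [Field K] [Algebra k K] [IsAlgClosed K] (M : Ideal B) [M.IsMaximal] [Algebra.FiniteType k B] :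
    ∃ χ : B →ₐ[k] K, RingHom.ker χ = M := by
  letI := Ideal.Quotient.field M
  haveI : Algebra.FiniteType k (B ⧸ M) :=
    Algebra.FiniteType.of_surjective (Ideal.Quotient.mkₐ k M) (Ideal.Quotient.mkₐ_surjective k M)
  haveI : Module.Finite k (B ⧸ M) := finite_of_finite_type_of_isJacobsonRing k (B ⧸ M)
  let g : (B ⧸ M) →ₐ[k] K := IsAlgClosed.lift
  refine ⟨g.comp (Ideal.Quotient.mkₐ k M), ?_⟩
  ext b
  rw [RingHom.mem_ker, AlgHom.comp_apply, map_eq_zero_iff g g.toRingHom.injective]
  exact Ideal.Quotient.eq_zero_iff_mem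

section detect

variable {A B : Type u} [CommRing A] [CommRing B] [HopfAlgebra k A] [HopfAlgebra k B]
variable (K : Type u) [Field K] [Algebra k K]

theorem id_mul_antipode (B : Type u) [CommRing B] [HopfAlgebra k B] :
    toConv (AlgHom.id k B) * toConv (HopfAlgebra.antipodeAlgHom k B) = 1 := by
  apply WithConv.ofConv_injective
  apply AlgHom.toLinearMap_injective
  apply WithConv.toConv_injective
  rw [AlgHom.toLinearMap_convMul, AlgHom.toLinearMap_convOne]
  simp [LinearMap.id_mul_antipode]

theorem comp_antipode_mul (χ : B →ₐ[k] K) :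
    toConv (χ.comp (HopfAlgebra.antipodeAlgHom k B)) * toConv χ = 1 := by
  apply WithConv.ofConv_injective
  have h := AlgHom.comp_convMul_distrib χ (toConv (HopfAlgebra.antipodeAlgHom k B)) (toConv (AlgHom.id k B))
  rw [AlgHom.antipode_id_cancel] at h
  simp only [ofConv_toConv, AlgHom.comp_id] at h
  rw [← h]
  apply AlgHom.ext; intro x
  simp [AlgHom.convOne_def]

theorem mul_comp_antipode (χ : B →ₐ[k] K) :
    toConv χ * toConv (χ.comp (HopfAlgebra.antipodeAlgHom k B)) = 1 := by
  apply WithConv.ofConv_injective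
  have h := AlgHom.comp_convMul_distrib χ (toConv (AlgHom.id k B)) (toConv (HopfAlgebra.antipodeAlgHom k B))
  rw [id_mul_antipode] at h
  simp only [ofConv_toConv, AlgHom.comp_id] at h
  rw [← h]
  apply AlgHom.ext; intro x
  simp [AlgHom.convOne_def]

/-- The inclusion of the base field. -/
abbrev inl (C : Type u) [CommRing C] [Algebra k C] : K →ₐ[k] K ⊗[k] C := Algebra.TensorProduct.includeLeft

/-- The inclusion of the algebra. -/
abbrev inr (C : Type u) [CommRing C] [Algebra k C] : C →ₐ[k] K ⊗[k] C := Algebra.TensorProduct.includeRight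

/-- Translation by a point, on functions. -/
noncomputable def transl (χ : B →ₐ[k] K) : B →ₐ[k] K ⊗[k] B :=
  (toConv ((inl K B).comp χ) * toConv (inr K B)).ofConv

theorem transl_kill (φ : B →ₐc[k] A) (hφ : Function.Surjective φ) (χ' : A →ₐ[k] K) (x : B) (hx : φ x = 0)
    (s : B) (hs : ∀ y, φ y = 0 → s * y = 0) :
    ((1 : K) ⊗ₜ[k] s) * transl K (χ'.comp (φ : B →ₐ[k] A)) x = 0 := by
  let M : K ⊗[k] B →ₐ[k] K ⊗[k] A := Algebra.TensorProduct.map (AlgHom.id k K) (φ : B →ₐ[k] A)
  have h1 : M.comp (transl K (χ'.comp (φ : B →ₐ[k] A))) =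
      ((toConv ((inl K A).comp χ') * toConv (inr K A)).ofConv).comp (φ : B →ₐ[k] A) := by
    rw [transl, AlgHom.comp_convMul_distrib, AlgHom.convMul_comp_bialgHom_distrib]
    refine congrArg ofConv (congrArg₂ (fun a b : B →ₐ[k] K ⊗[k] A => toConv a * toConv b) ?_ ?_)
    · apply AlgHom.ext; intro y; simp [M]
    · apply AlgHom.ext; intro y; simp [M]
  have h2 : transl K (χ'.comp (φ : B →ₐ[k] A)) x ∈ RingHom.ker M := by
    rw [RingHom.mem_ker]
    have := AlgHom.congr_fun h1 x
    rw [AlgHom.comp_apply, AlgHom.comp_apply] at this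
    rw [this]
    show _ = (0 : K ⊗[k] A)
    rw [show (φ : B →ₐ[k] A) x = 0 from hx, map_zero]
  rw [Algebra.TensorProduct.lTensor_ker _ (show Function.Surjective (φ : B →ₐ[k] A) from hφ)] at h2
  have h3 : Ideal.map (Algebra.TensorProduct.includeRight : B →ₐ[k] K ⊗[k] B) (RingHom.ker (φ : B →ₐ[k] A)) ≤
      Submodule.annihilator (Ideal.span {((1 : K) ⊗ₜ[k] s)}) := by
    rw [Ideal.map_le_iff_le_comap]
    intro y hy
    rw [Ideal.mem_comap, Submodule.mem_annihilator_span_singleton]
    simp [Algebra.TensorProduct.tmul_mul_tmul, mul_comm y s, hs y hy]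
  have h4 := (Submodule.mem_annihilator_span_singleton _ _).mp (h3 h2)
  rwa [smul_eq_mul, mul_comm] at h4

theorem exists_ann_eval_ne_zero (χ : B →ₐ[k] K) (x : B) (u : K ⊗[k] B) (hu : u * ((1 : K) ⊗ₜ[k] x) = 0)
    (hev : Algebra.TensorProduct.lift (AlgHom.id k K) χ (fun _ _ => Commute.all _ _) u ≠ 0) :
    ∃ b : B, b * x = 0 ∧ χ b ≠ 0 := by
  classical
  by_contra hcon
  simp only [not_exists, not_and, not_not] at hcon
  let ℬ := Module.Basis.ofVectorSpace k K
  let e := TensorProduct.equivFinsuppOfBasisLeft (R := k) (N := B) ℬ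
  have hb : ∀ w : K ⊗[k] B, ∀ i, e (w * ((1 : K) ⊗ₜ[k] x)) i = e w i * x := by
    intro w i
    induction w using TensorProduct.induction_on with
    | zero => simp
    | tmul a b => simp [e, Algebra.TensorProduct.tmul_mul_tmul, TensorProduct.equivFinsuppOfBasisLeft_apply_tmul_apply,
        Algebra.smul_mul_assoc]
    | add a b ha hb => simp only [add_mul, map_add, Finsupp.add_apply, ha, hb]
  refine hev ?_
  rw [← e.symm_apply_apply u, TensorProduct.equivFinsuppOfBasisLeft_symm_apply, map_finsuppSum]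
  refine Finset.sum_eq_zero fun i _ => ?_
  show Algebra.TensorProduct.lift (AlgHom.id k K) χ (fun _ _ => Commute.all _ _) (ℬ i ⊗ₜ[k] e u i) = 0
  rw [Algebra.TensorProduct.lift_tmul]
  have h0 : e u i * x = 0 := by rw [← hb, hu]; simp
  rw [hcon _ h0, mul_zero]

variable [IsAlgClosed K]

/-- A surjection of finitely generated Hopf algebras which is bijective on geometric points and
kills no function on the Frobenius kernels is an isomorphism. -/
theorem injective_of_points [Algebra.FiniteType k B] (φ : B →ₐc[k] A) (hφ : Function.Surjective φ)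
    (hpts : ∀ χ : B →ₐ[k] K, ∃ χ' : A →ₐ[k] K, χ'.comp (φ : B →ₐ[k] A) = χ)
    (hinf : ∀ (p : ℕ) [Fact p.Prime] [CharP k p] (n : ℕ),
      RingHom.ker (φ : B →ₐ[k] A) ≤ frobIdeal (k := k) p n B) :
    Function.Injective φ := by
  classical
  haveI : IsNoetherianRing B := Algebra.FiniteType.isNoetherianRing k B
  set J := RingHom.ker (φ : B →ₐ[k] A) with hJ
  suffices hJ0 : J = ⊥ by
    intro a b hab
    have : a - b ∈ J := by
      rw [hJ, RingHom.mem_ker, map_sub]
      exact sub_eq_zero.mpr hab
    rw [hJ0, Ideal.mem_bot, sub_eq_zero] at this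
    exact this
  rcases CharP.exists' k with h0 | ⟨p, hp, hpc⟩
  · haveI := GrothLib.Hopf.CharZeroReduced.isReduced' k B
    haveI : IsJacobsonRing B := isJacobsonRing_of_finiteType (A := k)
    rw [eq_bot_iff]
    intro x hx
    have h1 : x ∈ (⊥ : Ideal B).jacobson := by
      rw [Ideal.jacobson, Submodule.mem_sInf]
      rintro M ⟨-, hM⟩
      haveI := hM
      obtain ⟨χ, hχ⟩ := exists_point (k := k) K M
      obtain ⟨χ', hχ'⟩ := hpts χ
      rw [← hχ, RingHom.mem_ker, ← hχ', AlgHom.comp_apply,
        show (φ : B →ₐ[k] A) x = 0 from hx, map_zero]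
    have h2 : (⊥ : Ideal B).jacobson = (⊥ : Ideal B) :=
      IsJacobsonRing.out inferInstance (Ideal.isRadical_bot_iff.mpr inferInstance)
    rw [h2] at h1
    exact h1
  · haveI := hp
    set m := RingHom.ker (Bialgebra.counitAlgHom k B)
    have hm : ∀ x ∈ J, ∀ i : ℕ, x ∈ (m ^ i • ⊤ : Submodule B B) := fun x hx i => by
      rw [smul_eq_mul, Ideal.mul_top]
      exact frobIdeal_le_pow p i B ((Nat.lt_pow_self hp.out.one_lt).le) (hinf p i hx)
    have hr : ∀ x ∈ J, ∃ r : B, r * x = 0 ∧ Bialgebra.counitAlgHom k B r = 1 := fun x hx => by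
      obtain ⟨r, hr⟩ := (m.mem_iInf_smul_pow_eq_bot_iff x).mp (Submodule.mem_iInf _ |>.mpr (hm x hx))
      refine ⟨1 - r, ?_, ?_⟩
      · rw [sub_mul, one_mul, show (r : B) * x = x from hr, sub_self]
      · rw [map_sub, map_one, show Bialgebra.counitAlgHom k B (r : B) = 0 from r.2, sub_zero]
    obtain ⟨T, hT⟩ := (IsNoetherian.noetherian J : J.FG)
    have hTJ : ∀ t ∈ T, t ∈ J := fun t ht => hT ▸ Submodule.subset_span ht
    choose! r hr1 hr2 using hr
    let s := ∏ t ∈ T, r t
    have hsε : Bialgebra.counitAlgHom k B s = 1 := by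
      rw [map_prod]; exact Finset.prod_eq_one fun t ht => hr2 t (hTJ t ht)
    have hsJ : ∀ y, φ y = 0 → s * y = 0 := fun y hy => by
      have hy' : y ∈ J := hy
      have hle : J ≤ Submodule.annihilator (Ideal.span {s}) := by
        rw [← hT, Submodule.span_le]
        intro t ht
        rw [SetLike.mem_coe, Submodule.mem_annihilator_span_singleton, smul_eq_mul, mul_comm]
        show (∏ z ∈ T, r z) * t = 0
        rw [← Finset.prod_erase_mul T r (Finset.mem_coe.mp ht), mul_assoc,
          hr1 t (hTJ t ht), mul_zero]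
      have := (Submodule.mem_annihilator_span_singleton _ _).mp (hle hy')
      rwa [smul_eq_mul, mul_comm] at this
    rw [eq_bot_iff]
    intro x hx
    rw [Ideal.mem_bot]
    by_contra hx0
    let I : Ideal B := Submodule.annihilator (Ideal.span {x})
    have hI : I ≠ ⊤ := fun h => hx0 (by
      have := (Submodule.mem_annihilator_span_singleton x (1 : B)).mp (show (1 : B) ∈ I by rw [h]; trivial)
      rwa [one_smul] at this)
    obtain ⟨M, hM, hIM⟩ := Ideal.exists_le_maximal I hI
    haveI := hM
    obtain ⟨χ, hχ⟩ := exists_point (k := k) K M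
    obtain ⟨χ', rfl⟩ := hpts χ
    set χ := χ'.comp (φ : B →ₐ[k] A)
    let ψ := χ.comp (HopfAlgebra.antipodeAlgHom k B)
    let τ : K ⊗[k] B →ₐ[k] K ⊗[k] B :=
      Algebra.TensorProduct.lift (inl K B) (transl K ψ) (fun _ _ => Commute.all _ _)
    have hτl : τ.comp (inl K B) = inl K B := by
      apply AlgHom.ext; intro a; simp [τ]
    have hτr : τ.comp (inr K B) = transl K ψ := by
      apply AlgHom.ext; intro a; simp [τ]
    have hinv : τ.comp (transl K χ) = inr K B := by
      rw [transl, AlgHom.comp_convMul_distrib]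
      simp only [ofConv_toConv]
      rw [← AlgHom.comp_assoc, hτl, hτr, transl, toConv_ofConv, ← _root_.mul_assoc]
      have e1 : toConv ((inl K B).comp χ) * toConv ((inl K B).comp ψ) = 1 := by
        have h := AlgHom.comp_convMul_distrib (inl K B) (toConv χ) (toConv ψ)
        rw [mul_comp_antipode] at h
        simp only [ofConv_toConv] at h
        apply WithConv.ofConv_injective
        rw [← h]
        apply AlgHom.ext; intro b
        simp [AlgHom.convOne_def]
      rw [e1, _root_.one_mul]
    have hk := congrArg τ (transl_kill K φ hφ χ' x hx s hsJ)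
    rw [map_mul, map_zero, ← AlgHom.comp_apply, hinv] at hk
    obtain ⟨b, hb, hb0⟩ := exists_ann_eval_ne_zero K χ x (τ ((1 : K) ⊗ₜ[k] s)) hk (by
      have h : τ ((1 : K) ⊗ₜ[k] s) = transl K ψ s := AlgHom.congr_fun hτr s
      rw [h]
      let ev : K ⊗[k] B →ₐ[k] K := Algebra.TensorProduct.lift (AlgHom.id k K) χ (fun _ _ => Commute.all _ _)
      have he : ev.comp (transl K ψ) = (1 : WithConv (B →ₐ[k] K)).ofConv := by
        rw [transl, AlgHom.comp_convMul_distrib]
        simp only [ofConv_toConv]
        rw [← comp_antipode_mul K χ]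
        refine congrArg ofConv (congrArg₂ (fun a b : B →ₐ[k] K => toConv a * toConv b) ?_ ?_)
        · apply AlgHom.ext; intro y; simp [ev, ψ]
        · apply AlgHom.ext; intro y; simp [ev]
      show ev (transl K ψ s) ≠ 0
      rw [← AlgHom.comp_apply, he]
      simp only [AlgHom.convOne_def, ofConv_toConv, AlgHom.comp_apply]
      rw [hsε, map_one]
      exact one_ne_zero)
    refine hb0 ?_
    have : b ∈ RingHom.ker χ := by
      rw [hχ]
      exact hIM (show b ∈ I from (Submodule.mem_annihilator_span_singleton x b).mpr hb)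
    exact this

end detect

section finite

variable {R : Type u} [CommRing R] [Algebra k R] [Algebra.FiniteType k R]

theorem finite_of_subsingleton_points (K : Type u) [Field K] [Algebra k K] [IsAlgClosed K]
    [Subsingleton (R →ₐ[k] K)] : Module.Finite k R := by
  haveI : IsNoetherianRing R := Algebra.FiniteType.isNoetherianRing k R
  haveI : IsJacobsonRing R := isJacobsonRing_of_finiteType (A := k) (B := R)
  rw [Module.finite_iff_isArtinianRing, isArtinianRing_iff_isNoetherianRing_krullDimLE_zero]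
  refine ⟨inferInstance, Ring.KrullDimLE.mk₀ fun P hP => ?_⟩
  obtain ⟨M, hM, hPM⟩ := Ideal.exists_le_maximal P hP.ne_top
  have hj : P.jacobson = P := IsJacobsonRing.out inferInstance hP.isRadical
  have : M ≤ P.jacobson := by
    refine le_sInf ?_
    rintro N ⟨-, hN⟩
    haveI := hN
    haveI := hM
    obtain ⟨f, hf⟩ := exists_point (k := k) (B := R) K M
    obtain ⟨g, hg⟩ := exists_point (k := k) (B := R) K N
    rw [← hf, ← hg, Subsingleton.elim f g]
  rw [hj] at this
  rwa [le_antisymm hPM this]

end finite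

end GrothLib.FrobN13
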